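import Groth.Agent.FlatMorStrat.QcqsColim
import Groth.Agent.Coherent.AnnSheaf
import Groth.Agent.Coherent.SubFTApps
import Groth.Agent.Coherent.SchemeCoh
import Groth.Agent.EulerLib.SupportVanishing
import Mathlib.CategoryTheory.Abelian.GrothendieckCategory.Subobject
import Mathlib.CategoryTheory.Sites.Abelian

/-!
# Cohomology of quasi-coherent modules supported on a closed subset

On a qcqs scheme the cohomology of a quasi-coherent module is generated by the cohomology of its
quasi-coherent submodules of finite type, and the latter live on closed subschemes.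
-/

set_option autoImplicit false
set_option backward.isDefEq.respectTransparency false
set_option linter.style.haveILetI false

universe u

open CategoryTheory CategoryTheory.Limits AlgebraicGeometry Opposite TopologicalSpace
open Groth.Agent.Coherent Groth.Agent.EulerLib

namespace Groth.Agent.FlatMorStrat

variable {X : Scheme.{u}}

theorem subsingleton_HH_of_iso {M N : X.Modules} (e : M ≅ N) (q : ℕ)
    (h : Subsingleton (Coh.HH X M q)) : Subsingleton (Coh.HH X N q) :=
  (((Sheaf.functorH (Opens.grothendieckTopology X) q).mapIso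
    ((SheafOfModules.toSheaf.{u} X.ringCatSheaf).mapIso e)).addCommGroupIsoToAddEquiv.toEquiv.subsingleton_congr).mp h

variable (F : X.Modules)

/-- The submodules which are quasi-coherent of finite type. -/
abbrev GoodSub : Type u := {P : SubM F // P.Good ⊤}

variable {F}

instance : Preorder (GoodSub F) where
  le P Q := ∀ W, P.1.carrier W ≤ Q.1.carrier W
  le_refl P W := le_rfl
  le_trans P Q R h h' W := (h W).trans (h' W)

/-- The diagram of the good submodules, as abelian sheaves. -/
noncomputable def inclHom {P Q : GoodSub F} (h : P ≤ Q) :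
    Coh.toAb P.1.toMod ⟶ Coh.toAb Q.1.toMod :=
  ⟨{ app := fun W => AddCommGrpCat.ofHom
      { toFun := fun a => (⟨a.1, h W.unop a.2⟩ : Q.1.carrier W.unop)
        map_zero' := rfl
        map_add' := fun _ _ => rfl }
     naturality := fun W W' f => by
       ext a
       exact Subtype.ext rfl }⟩

noncomputable def inclι (P : GoodSub F) : Coh.toAb P.1.toMod ⟶ Coh.toAb F :=
  (SheafOfModules.toSheaf.{u} X.ringCatSheaf).map P.1.toι

theorem inclι_app (P : GoodSub F) (W : (X.Opens)ᵒᵖ) (a : P.1.carrier W.unop) :
    (inclι P).hom.app W a = a.1 := rfl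

theorem inclHom_comp {P Q : GoodSub F} (h : P ≤ Q) : inclHom h ≫ inclι Q = inclι P := rfl

instance mono_inclι (P : GoodSub F) : Mono (inclι P) :=
  ⟨fun g h e => by
    ext W a
    exact P.1.toι_injective W.unop (congr($(e).hom.app W a))⟩

variable (F) in
noncomputable def goodDiag : GoodSub F ⥤ Sheaf (Opens.grothendieckTopology X) AddCommGrpCat.{u} where
  obj P := Coh.toAb P.1.toMod
  map f := inclHom (leOfHom f)
  map_id P := rfl
  map_comp f g := rfl

variable (F) in
noncomputable def goodCocone : Cocone (goodDiag F) :=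
  Cocone.mk (Coh.toAb F)
    { app := fun P => inclι P
      naturality := fun P Q f => by
        show inclHom (leOfHom f) ≫ inclι Q = inclι P ≫ 𝟙 _
        rw [inclHom_comp, Category.comp_id] }

theorem isDirected_goodSub : IsDirected (GoodSub F) (· ≤ ·) := ⟨fun P Q => by
  let R : ULift.{u} Bool → SubM F := fun b => cond b.down P.1 Q.1
  have hR : ∀ b, (R b).Good ⊤ := by rintro ⟨_ | _⟩ <;> [exact Q.2; exact P.2]
  exact ⟨⟨SubM.sum R, SubM.good_sum R hR⟩, fun W => SubM.le_sum R ⟨true⟩ W,
    fun W => SubM.le_sum R ⟨false⟩ W⟩⟩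

variable [CompactSpace X] [QuasiSeparatedSpace X]

theorem nonempty_goodSub [Coh.IsQCoh F] : Nonempty (GoodSub F) := by
  obtain ⟨Q, hQ, -⟩ := exists_good_containing_qcqs (F := F) (U := (⊥ : X.Opens))
    (I := PEmpty.{u + 1}) (by simp) PEmpty.elim
  exact ⟨⟨Q, hQ⟩⟩

theorem isFiltered_goodSub [Coh.IsQCoh F] : IsFiltered (GoodSub F) := by
  have := isDirected_goodSub (F := F)
  have := nonempty_goodSub (F := F)
  have : IsFilteredOrEmpty (GoodSub F) := inferInstance
  exact { nonempty := inferInstance }

variable (F) in
/-- A quasi-coherent module on a qcqs scheme is, as an abelian sheaf, the union of its quasi-coherent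
submodules of finite type. -/
theorem nonempty_isColimit_goodCocone [Coh.IsQCoh F] : Nonempty (IsColimit (goodCocone F)) := by
  have := isFiltered_goodSub (F := F)
  have : IsConnected (GoodSub F) := IsFiltered.isConnected _
  let c := colimit.cocone (goodDiag F)
  let hc : IsColimit c := colimit.isColimit _
  let f : c.pt ⟶ Coh.toAb F := hc.desc (goodCocone F)
  let α : goodDiag F ⟶ (Functor.const _).obj (Coh.toAb F) := (goodCocone F).ι
  have : ∀ P, Mono (α.app P) := fun P => mono_inclι P
  have := NatTrans.mono_of_mono_app α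
  have hm : Mono f := colim.map_mono' α hc (isColimitConstCocone (GoodSub F) (Coh.toAb F)) f
    (by intro P; exact hc.fac (goodCocone F) P)
  have he : Epi f := ⟨fun {G} g h e => by
    have hP : ∀ P : GoodSub F, inclι P ≫ g = inclι P ≫ h := fun P => by
      have := congrArg (c.ι.app P ≫ ·) e
      simp only [← Category.assoc, f, hc.fac] at this
      exact this
    ext W a
    refine TopCat.Sheaf.eq_of_locally_eq' (G : TopCat.Sheaf AddCommGrpCat.{u} X.toTopCat)
      (fun p : {V : X.Opens // IsAffineOpen V ∧ V ≤ W.unop} => p.1) W.unop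
      (fun p => homOfLE p.2.2) (fun y hy => ?_) _ _ fun p => ?_
    · obtain ⟨V, hV, hyV, hVW⟩ := Opens.isBasis_iff_nbhd.mp X.isBasis_affineOpens hy
      exact Opens.mem_iSup.2 ⟨⟨V, hV, hVW⟩, hyV⟩
    · let b : Γ(F, p.1) := resM F p.2.2 a
      obtain ⟨Q, hQ, hb⟩ := exists_good_containing_qcqs (F := F) p.2.1.isCompact
        (I := PUnit.{u + 1}) fun _ => b
      have h0 := congr($(hP ⟨Q, hQ⟩).hom.app (op p.1) (⟨b, hb ⟨⟩⟩ : Q.carrier p.1))
      refine (NatTrans.naturality_apply g.hom (homOfLE p.2.2).op a).symm.trans ?_
      refine Eq.trans ?_ (NatTrans.naturality_apply h.hom (homOfLE p.2.2).op a)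
      exact h0⟩
  have : IsIso f := isIso_of_mono_of_epi f
  exact ⟨IsColimit.ofPointIso hc (t := goodCocone F)⟩

theorem exists_goodSub_preimage [Coh.IsQCoh F] (q : ℕ) (x : Coh.HH X F q) :
    ∃ (P : GoodSub F) (y : Coh.HH X P.1.toMod q), Sheaf.H.map (inclι P) q y = x := by
  have := isFiltered_goodSub (F := F)
  obtain ⟨hc⟩ := nonempty_isColimit_goodCocone F
  have := @preservesFilteredColimits_H X.toTopCat (show PrespectralSpace X from inferInstance)
    (show QuasiSeparatedSpace X from inferInstance) (show CompactSpace X from inferInstance)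
    (GoodSub F) _ _ q
  obtain ⟨P, y, hy⟩ := Concrete.isColimit_exists_rep _
    (@isColimitOfPreserves _ _ _ _ _ _ _ (Sheaf.functorH (Opens.grothendieckTopology X.toTopCat) q) _ hc
      this.preservesColimit) x
  exact ⟨P, y, hy⟩

variable (F) in
/-- The cohomology of a quasi-coherent module supported on a closed set vanishes in a degree in which
it vanishes for all quasi-coherent modules on closed subschemes contained in the set. -/
theorem subsingleton_HH_of_closedSubschemes [Coh.IsQCoh F] (T : Set X) (q : ℕ)
    (hsupp : CohB1.support F ⊆ T)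
    (h : ∀ (Z : Scheme.{u}) (i : Z ⟶ X), IsClosedImmersion i → Set.range i ⊆ T →
      ∀ (G : Z.Modules), Coh.IsQCoh G → Subsingleton (Coh.HH Z G q)) :
    Subsingleton (Coh.HH X F q) := by
  refine subsingleton_of_forall_eq 0 fun x => ?_
  obtain ⟨P, y, rfl⟩ := exists_goodSub_preimage q x
  have hq : Coh.IsQCoh P.1.toMod := SubM.isQCoh P.2
  have hft : CohB1.IsFT P.1.toMod := SubM.isFT P.2
  let J := annSheaf hq hft
  let i := J.subschemeι
  have hk : ClSub.KilledByIdeal i.ker P.1.toMod := killed_ker_annSheaf hq hft
  have hr : Set.range i ⊆ T := by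
    rw [show Set.range i = (J.support : Set X) from J.range_subschemeι, support_annSheaf hq hft]
    exact (support_subset_of_mono P.1.toι).trans hsupp
  let G := (Scheme.Modules.pullback i).obj P.1.toMod
  have hG : Coh.IsQCoh G := EGA43.InjFibre.isQCoh_pullback i P.1.toMod
  have h1 : Subsingleton (Coh.HH X ((Coh.push i).obj G) q) :=
    (HHAffinePushEquiv i G q).toEquiv.symm.subsingleton_congr.mpr
      (h _ i inferInstance hr G hG)
  have h2 : Subsingleton (Coh.HH X P.1.toMod q) :=
    subsingleton_HH_of_iso (clIso i hk).symm q h1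
  rw [Subsingleton.elim y 0]
  exact map_zero _

end Groth.Agent.FlatMorStrat
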