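import Groth.Agent.FlatMorGeom.AffineStrat
import Groth.Agent.SDiv28.LocalDim

/-! A Noetherian scheme of dimension at most `n` has an affine stratification indexed by `{0, …, n}`. -/

universe u

set_option autoImplicit false
set_option backward.isDefEq.respectTransparency false

namespace Groth.Agent.FlatMorStrat

open AlgebraicGeometry CategoryTheory CategoryTheory.Limits TopologicalSpace

/-- A Noetherian scheme has a dense affine open with affine inclusion. -/
theorem exists_affine_dense (Z : Scheme.{u}) [IsNoetherian Z] :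
    ∃ U : Z.Opens, IsAffineOpen U ∧ IsAffineHom U.ι ∧ ∀ z : Z, ∃ y ∈ U, y ⤳ z := by
  classical
  have hfinC := NoetherianSpace.finite_irreducibleComponents (α := Z)
  have := hfinC.to_subtype
  let κ := irreducibleComponents Z
  choose η hη using fun K : κ => QuasiSober.sober K.2.1 (isClosed_of_mem_irreducibleComponents K.1 K.2)
  choose W hW hxW hW' using fun x : Z => exists_isAffineOpen_mem_and_subset (x := x) (U := (⊤ : Z.Opens)) trivial
  obtain ⟨t, ht⟩ := isCompact_univ.elim_finite_subcover (fun x : Z => (W x : Set Z)) (fun x => (W x).2)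
    fun x _ => Set.mem_iUnion.2 ⟨x, hxW x⟩
  have hηother : ∀ K K' : κ, η K ∈ (K'.1 : Set Z) → K = K' := fun K K' h => by
    have : (K.1 : Set Z) ⊆ K'.1 := (hη K).def ▸
      closure_minimal (Set.singleton_subset_iff.2 h) (isClosed_of_mem_irreducibleComponents K'.1 K'.2)
    exact Subtype.ext (subset_antisymm this (K.2.2 K'.2.1 this))
  have hA : ∀ K : κ, ∃ A : Z.Opens, IsAffineOpen A ∧ η K ∈ A ∧
      (∀ K' : κ, K' ≠ K → Disjoint (A : Set Z) K'.1) ∧ ∀ x ∈ t, η K ∈ W x → A ≤ W x := by
    intro K
    let O : Z.Opens := ⟨(⋃ K' ∈ {K' : κ | K' ≠ K}, (K'.1 : Set Z))ᶜ,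
      ((Set.toFinite _).isClosed_biUnion fun K' _ => isClosed_of_mem_irreducibleComponents K'.1 K'.2).isOpen_compl⟩
    let O' : Z.Opens := (t.filter fun x => η K ∈ W x).inf W
    have hmem : η K ∈ O ⊓ O' := by
      refine ⟨fun h => ?_, ?_⟩
      · obtain ⟨K', hK', hh⟩ := Set.mem_iUnion₂.1 h
        exact hK' (hηother K K' hh).symm
      · show η K ∈ O'
        rw [← SetLike.mem_coe, Opens.coe_finset_inf, Finset.inf_set_eq_iInter]
        exact Set.mem_iInter₂.2 fun x hx => (Finset.mem_filter.1 hx).2
    obtain ⟨A, hA, hηA, hAle⟩ := exists_isAffineOpen_mem_and_subset hmem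
    refine ⟨A, hA, hηA, fun K' hK' => Set.disjoint_left.2 fun z hz hz' =>
      (hAle hz).1 (Set.mem_iUnion₂.2 ⟨K', hK', hz'⟩), fun x hx hxη z hz => ?_⟩
    exact (Finset.inf_le (f := W) (Finset.mem_filter.2 ⟨hx, hxη⟩)) (hAle hz).2
  choose A hAaff hηA hAd hAW using hA
  have hAsub : ∀ K, (A K : Set Z) ⊆ K.1 := fun K z hz => by
    by_contra hz'
    obtain ⟨L, hL, hzL⟩ : ∃ L ∈ irreducibleComponents Z, z ∈ L :=
      ⟨irreducibleComponent z, irreducibleComponent_mem_irreducibleComponents z, mem_irreducibleComponent⟩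
    exact Set.disjoint_left.1 (hAd K ⟨L, hL⟩ fun h => hz' (h ▸ hzL)) hz hzL
  have hdisj : Pairwise (Function.onFun Disjoint A) := fun K K' hne => by
    show Disjoint (A K) (A K')
    rw [← Opens.coe_disjoint]
    exact (hAd K K' hne.symm).mono_right (hAsub K')
  refine ⟨⨆ K, A K, IsAffineOpen.iSup_of_disjoint hAaff hdisj, ?_, fun z => ?_⟩
  · refine isAffineHom_of_forall_exists_isAffineOpen _ fun z => ?_
    obtain ⟨x, hx, hzx⟩ := Set.mem_iUnion₂.1 (ht (Set.mem_univ z))
    refine ⟨W x, hzx, hW x, ?_⟩
    rw [← Scheme.Hom.isAffineOpen_iff_of_isOpenImmersion (⨆ K, A K).ι,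
      (⨆ K, A K).ι.image_preimage_eq_opensRange_inf, Scheme.Opens.opensRange_ι]
    let B : κ → Z.Opens := fun K => if η K ∈ W x then A K else ⊥
    have he : (⨆ K, A K) ⊓ W x = ⨆ K, B K := by
      rw [iSup_inf_eq]
      refine iSup_congr fun K => ?_
      by_cases h : η K ∈ W x
      · simp only [B, if_pos h]; exact inf_eq_left.2 (hAW K x hx h)
      · simp only [B, if_neg h]
        refine bot_unique fun y hy => h ?_
        exact ((hη K).specializes (hAsub K hy.1)).mem_open (W x).2 hy.2
    rw [he]
    refine IsAffineOpen.iSup_of_disjoint (fun K => ?_) fun K K' hne => ?_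
    · simp only [B]; split_ifs; exacts [hAaff K, isAffineOpen_bot Z]
    · show Disjoint (B K) (B K')
      exact (hdisj hne).mono (by simp only [B]; split_ifs <;> simp) (by simp only [B]; split_ifs <;> simp)
  · refine ⟨η ⟨irreducibleComponent z, irreducibleComponent_mem_irreducibleComponents z⟩,
      Opens.mem_iSup.2 ⟨_, hηA _⟩, (hη _).specializes mem_irreducibleComponent⟩

/-- A Noetherian scheme of dimension at most `n` has an affine stratification with index set `{0, …, n}`. -/
theorem hasAffineStratification_of_dim_le : ∀ (n : ℕ) (Z : Scheme.{u}) [IsNoetherian Z],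
    topologicalKrullDim Z ≤ n → MoreMor.HasAffineStratification Z n := by
  intro n
  induction n with
  | zero =>
    intro Z _ hd
    obtain ⟨U, hU, haff, hgen⟩ := exists_affine_dense Z
    have : IsAffine U.toScheme := hU
    have htop : ∀ z, z ∈ U := by
      intro z
      by_contra hz
      let D : Set Z := (U : Set Z)ᶜ
      have hD : IsClosed D := U.2.isClosed_compl
      have : QuasiSober D := hD.isClosedEmbedding_subtypeVal.quasiSober
      have : Nonempty D := ⟨⟨z, hz⟩⟩
      have h := SDiv28.topologicalKrullDim_add_one_le hD.isClosedEmbedding_subtypeVal fun d => by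
        obtain ⟨y, hy, hyd⟩ := hgen d.1
        exact ⟨y, hyd, fun ⟨e, he⟩ => e.2 (he ▸ hy)⟩
      have h0 : (0 : WithBot ℕ∞) ≤ topologicalKrullDim D := by
        have : Nonempty (IrreducibleCloseds D) :=
          ⟨⟨closure {⟨z, hz⟩}, isIrreducible_singleton.closure, isClosed_closure⟩⟩
        exact Order.krullDim_nonneg
      have h1 : (0 : WithBot ℕ∞) + 1 ≤ 0 := (add_le_add_left h0 1).trans (h.trans hd)
      norm_num at h1
    refine ⟨fun _ => 0, fun i => ?_, fun i => ⟨U.toScheme, U.ι, inferInstance, inferInstance, haff, ?_⟩⟩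
    · simp
    · ext z; simp [htop z, Scheme.Opens.range_ι, Fin.fin_one_eq_zero i]
  | succ n ih =>
    intro Z _ hd
    classical
    obtain ⟨U, hU, haff, hgen⟩ := exists_affine_dense Z
    have : IsAffine U.toScheme := hU
    let C : Closeds Z := ⟨(U : Set Z)ᶜ, U.2.isClosed_compl⟩
    let ι := (Scheme.IdealSheafData.vanishingIdeal C).subschemeι
    have hι : Set.range ι = (U : Set Z)ᶜ := by
      rw [Scheme.IdealSheafData.range_subschemeι, Scheme.IdealSheafData.coe_support_vanishingIdeal]; rfl
    let Z' := (Scheme.IdealSheafData.vanishingIdeal C).subscheme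
    have : IsLocallyNoetherian Z' := LocallyOfFiniteType.isLocallyNoetherian ι
    have : CompactSpace Z' := ι.isClosedEmbedding.compactSpace
    have : IsNoetherian Z' := ⟨⟩
    have hd' : topologicalKrullDim Z' ≤ n := by
      rcases isEmpty_or_nonempty Z' with h | h
      · have : IsEmpty (IrreducibleCloseds Z') := ⟨fun c => isEmptyElim c.isIrreducible.nonempty.some⟩
        exact le_of_eq_of_le Order.krullDim_eq_bot bot_le
      have h := SDiv28.topologicalKrullDim_add_one_le ι.isClosedEmbedding fun d => by
        obtain ⟨y, hy, hyd⟩ := hgen (ι d)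
        exact ⟨y, hyd, fun hr => hι.subset hr hy⟩
      have h' : topologicalKrullDim Z' + 1 ≤ (n : WithBot ℕ∞) + 1 := h.trans (hd.trans (by push_cast; rfl))
      generalize topologicalKrullDim Z' = x at h' ⊢
      induction x using WithBot.recBotCoe with
      | bot => exact bot_le
      | coe a =>
        have ha : a + 1 ≤ (n : ℕ∞) + 1 := WithBot.coe_le_coe.1 h'
        exact WithBot.coe_le_coe.2 ((ENat.add_le_add_iff_right ENat.one_ne_top).1 ha)
    obtain ⟨s', hs', hst'⟩ := ih Z' hd'
    let pre : (z : Z) → z ∉ U → Z' := fun z hz => (hι.superset hz).choose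
    have hpre : ∀ z hz, ι (pre z hz) = z := fun z hz => (hι.superset hz).choose_spec
    let s : Z → Fin (n + 2) := fun z => if h : z ∈ U then Fin.last (n + 1) else (s' (pre z h)).castSucc
    have hsι : ∀ z', s (ι z') = (s' z').castSucc := fun z' => by
      have h : ι z' ∉ U := hι.subset ⟨z', rfl⟩
      simp only [s, dif_neg h]
      rw [ι.isClosedEmbedding.injective (hpre _ h)]
    have hsU : ∀ z ∈ U, s z = Fin.last (n + 1) := fun z hz => by simp only [s, dif_pos hz]
    refine ⟨s, fun i => ?_, fun i => ?_⟩
    · refine i.lastCases ?_ fun j => ?_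
      · simp [Fin.le_last]
      · have : {z | s z ≤ j.castSucc} = ι '' {z' | s' z' ≤ j} := by
          ext z
          constructor
          · intro hz
            by_cases h : z ∈ U
            · rw [Set.mem_ofPred_eq, hsU z h] at hz
              exact absurd hz (not_le.2 (Fin.castSucc_lt_last j))
            · obtain ⟨z', rfl⟩ := hι.superset h
              exact ⟨z', by rw [Set.mem_ofPred_eq, hsι] at hz; exact Fin.castSucc_le_castSucc_iff.1 hz, rfl⟩
          · rintro ⟨z', hz', rfl⟩
            rw [Set.mem_ofPred_eq, hsι]; exact Fin.castSucc_le_castSucc_iff.2 hz'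
        rw [this]
        exact ι.isClosedEmbedding.isClosedMap _ (hs' j)
    · refine i.lastCases ⟨U.toScheme, U.ι, inferInstance, inferInstance, haff, ?_⟩ fun j => ?_
      · ext z
        rw [Scheme.Opens.range_ι]
        refine ⟨hsU z, fun hz => ?_⟩
        by_contra h
        obtain ⟨z', rfl⟩ := hι.superset h
        rw [Set.mem_ofPred_eq, hsι] at hz
        exact (Fin.castSucc_lt_last _).ne hz
      · obtain ⟨W, j', hj', hW, hja, hr⟩ := hst' j
        refine ⟨W, j' ≫ ι, inferInstance, hW, inferInstance, ?_⟩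
        rw [Scheme.Hom.comp_base, TopCat.coe_comp, Set.range_comp, hr]
        ext z
        constructor
        · rintro ⟨z', hz', rfl⟩
          show s (ι z') = _
          rw [hsι, show s' z' = j from hz']
        · intro hz
          by_cases h : z ∈ U
          · rw [Set.mem_ofPred_eq, hsU z h] at hz
            exact absurd hz.symm (Fin.castSucc_lt_last j).ne
          · obtain ⟨z', rfl⟩ := hι.superset h
            rw [Set.mem_ofPred_eq, hsι] at hz
            exact ⟨z', Fin.castSucc_injective _ hz, rfl⟩

end Groth.Agent.FlatMorStrat
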