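import Groth.Agent.FlatMorStrat.Supported
import Groth.Agent.VarietyLib.FiniteClosedCover
import Groth.Agent.Coherent.DevissageIdeal
import Groth.Prelude.Def_MoreMor

/-!
# Vanishing of cohomology above the affine stratification number
-/

set_option autoImplicit false
set_option backward.isDefEq.respectTransparency false
set_option linter.style.haveILetI false

universe u

open CategoryTheory CategoryTheory.Limits AlgebraicGeometry Opposite TopologicalSpace
open Groth.Agent.Coherent Groth.Agent.EulerLib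

namespace Groth.Agent.FlatMorStrat

local notation "St" => DerSch.stalkFunctor

/-- A scheme with an affine stratification is quasi-compact. -/
theorem compactSpace_of_strat {X : Scheme.{u}} {n : ℕ} (hX : MoreMor.HasAffineStratification X n) :
    CompactSpace X := by
  obtain ⟨s, -, hs⟩ := hX
  choose Z ι hι hZ hιa hr using hs
  refine ⟨?_⟩
  have he : (Set.univ : Set X) = ⋃ i, Set.range (ι i) := by
    ext x; simp only [Set.mem_univ, Set.mem_iUnion, true_iff]; exact ⟨s x, by rw [hr]; rfl⟩
  rw [he]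
  exact isCompact_iUnion fun i => isCompact_range (ι i).continuous

/-- A scheme with an affine stratification is quasi-separated. -/
theorem quasiSeparatedSpace_of_strat {X : Scheme.{u}} {n : ℕ}
    (hX : MoreMor.HasAffineStratification X n) : QuasiSeparatedSpace X := by
  obtain ⟨s, -, hs⟩ := hX
  choose Z ι hι hZ hιa hr using hs
  rw [quasiSeparatedSpace_iff_forall_affineOpens]
  intro U V
  have he : (U : Set X) ∩ V = ⋃ i, ι i '' (((ι i ⁻¹ᵁ U.1 : (Z i).Opens) : Set (Z i)) ∩ (ι i ⁻¹ᵁ V.1 : (Z i).Opens)) := by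
    ext x
    simp only [Set.mem_iUnion, Set.mem_image, Set.mem_inter_iff]
    constructor
    · intro hx
      obtain ⟨z, hz⟩ : x ∈ Set.range (ι (s x)) := by rw [hr]; rfl
      exact ⟨_, z, ⟨show ι (s x) z ∈ U.1 by rw [hz]; exact hx.1, show ι (s x) z ∈ V.1 by rw [hz]; exact hx.2⟩, hz⟩
    · rintro ⟨i, z, hz, rfl⟩; exact hz
  rw [he]
  refine isCompact_iUnion fun i => IsCompact.image ?_ (ι i).continuous
  have := hZ i
  have : QuasiSeparatedSpace (Z i) := inferInstance
  exact QuasiSeparatedSpace.inter_isCompact (α := Z i) _ _ (ι i ⁻¹ᵁ U.1).2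
    ((U.2.preimage (ι i)).isCompact) (ι i ⁻¹ᵁ V.1).2 ((V.2.preimage (ι i)).isCompact)

/-- An affine stratification restricts to a closed subscheme avoiding the last strata. -/
theorem strat_of_closedImmersion {X Z : Scheme.{u}} {n m : ℕ}
    (s : X → Fin (n + 1)) (hs : ∀ i, IsClosed {x : X | s x ≤ i})
    (hstr : ∀ i : Fin (n + 1), ∃ (W : Scheme.{u}) (ι : W ⟶ X),
      IsImmersion ι ∧ IsAffine W ∧ IsAffineHom ι ∧ Set.range ι = {x : X | s x = i})
    (hmn : m ≤ n) (i : Z ⟶ X) [IsClosedImmersion i] (hi : ∀ z, (s (i z)).val < m + 1) :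
    MoreMor.HasAffineStratification Z m := by
  refine ⟨fun z => ⟨(s (i z)).val, hi z⟩, fun j => ?_, fun j => ?_⟩
  · have he : {z : Z | (⟨(s (i z)).val, hi z⟩ : Fin (m + 1)) ≤ j} =
        i ⁻¹' {x : X | s x ≤ (⟨j.val, by omega⟩ : Fin (n + 1))} := by
      ext z; simp [Fin.le_def]
    rw [he]
    exact (hs _).preimage i.continuous
  · obtain ⟨W, ι, hι, hW, hιa, hr⟩ := hstr ⟨j.val, by omega⟩
    refine ⟨(pullback i ι : Scheme.{u}), pullback.fst i ι, inferInstance,
      isAffine_of_isAffineHom (pullback.snd i ι),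
      MorphismProperty.pullback_fst (P := @IsAffineHom.{u}) i ι hιa, ?_⟩
    rw [Scheme.Pullback.range_fst, hr]
    ext z
    simp [Fin.ext_iff]

/-- The open top stratum is affine with affine inclusion. -/
theorem isAffine_top_stratum {X : Scheme.{u}} (U : X.Opens) {W : Scheme.{u}} (ι : W ⟶ X)
    [IsImmersion ι] [IsAffine W] [IsAffineHom ι] (hr : Set.range ι = (U : Set X)) :
    IsAffineOpen U ∧ IsAffineHom U.ι := by
  let ι' : W ⟶ U.toScheme := IsOpenImmersion.lift U.ι ι (by rw [hr, Scheme.Opens.range_ι])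
  have hfac : ι' ≫ U.ι = ι := IsOpenImmersion.lift_fac _ _ _
  have : IsImmersion ι' := by
    have : IsImmersion (ι' ≫ U.ι) := by rw [hfac]; infer_instance
    exact IsImmersion.of_comp ι' U.ι
  have hsurj : Function.Surjective ι' := fun y => by
    obtain ⟨w, hw⟩ : y.1 ∈ Set.range ι := by rw [hr]; exact y.2
    refine ⟨w, U.ι.isOpenEmbedding.injective ?_⟩
    rw [← Scheme.Hom.comp_apply, hfac]; exact hw
  have : IsClosedImmersion ι' := IsClosedImmersion.of_isPreimmersion ι'
    (by rw [hsurj.range_eq]; exact isClosed_univ)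
  have hU : IsAffineOpen U := VarietyLib.isAffine_of_surjective_closedImmersion ι' hsurj
  refine ⟨hU, ⟨fun V hV => ?_⟩⟩
  have hWV : IsAffineOpen (ι' ⁻¹ᵁ U.ι ⁻¹ᵁ V) := by
    rw [← Scheme.Hom.comp_preimage, hfac]; exact hV.preimage ι
  have : IsAffine (ι' ⁻¹ᵁ U.ι ⁻¹ᵁ V).toScheme := hWV
  refine VarietyLib.isAffine_of_surjective_closedImmersion (ι' ∣_ U.ι ⁻¹ᵁ V) fun y => ?_
  obtain ⟨w, hw⟩ := hsurj y.1
  refine ⟨⟨w, show ι' w ∈ U.ι ⁻¹ᵁ V by rw [hw]; exact y.2⟩, ?_⟩
  exact Subtype.ext (by rw [morphismRestrict_base_coe]; exact hw)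

theorem kernel_cokernel_restrictUnit {X : Scheme.{u}} (M : X.Modules) (U : X.Opens) :
    CohB1.support (kernel ((Scheme.Modules.restrictAdjunction U.ι).unit.app M)) ⊆ (U : Set X)ᶜ ∧
      CohB1.support (cokernel ((Scheme.Modules.restrictAdjunction U.ι).unit.app M)) ⊆ (U : Set X)ᶜ := by
  let u := (Scheme.Modules.restrictAdjunction U.ι).unit.app M
  have hbij : ∀ z ∈ U, Function.Bijective ((St X z).map u) := fun z hz =>
    bijective_stalk_restrictUnit M hz
  refine ⟨fun z hz hzU => hz (subsingleton_of_forall_eq 0 fun a => ?_),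
    fun z hz hzU => hz (subsingleton_of_forall_eq 0 fun a => ?_)⟩
  · have h1 : (St X z).map u ((St X z).map (kernel.ι u) a) = 0 := by
      refine (stalk_comp_apply _ _ _).trans ?_
      rw [kernel.condition]
      exact stalk_zero_apply _
    exact (ModuleCat.mono_iff_injective ((St X z).map (kernel.ι u))).1 inferInstance
      (((hbij z hzU).1 (h1.trans (map_zero _).symm)).trans (map_zero _).symm)
  · obtain ⟨b, rfl⟩ := (ModuleCat.epi_iff_surjective ((St X z).map (cokernel.π u))).1 inferInstance a
    obtain ⟨c, rfl⟩ := (hbij z hzU).2 b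
    refine (stalk_comp_apply _ _ _).trans ?_
    rw [cokernel.condition]
    exact stalk_zero_apply _

/-- Cohomology of quasi-coherent modules vanishes above the affine stratification number. -/
theorem subsingleton_HH_of_strat : ∀ (n : ℕ) (X : Scheme.{u}),
    MoreMor.HasAffineStratification X n → ∀ (F : X.Modules), Coh.IsQCoh F →
    ∀ p : ℕ, n < p → Subsingleton (Coh.HH X F p) := by
  intro n
  induction n with
  | zero =>
    intro X hX F hF p hp
    obtain ⟨s, -, hstr⟩ := hX
    obtain ⟨W, ι, hι, hW, hιa, hr⟩ := hstr 0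
    have hall : Set.range ι = (Set.univ : Set X) := by
      rw [hr]; ext x; simpa using Subsingleton.elim (α := Fin 1) (s x) 0
    have hsurj : Function.Surjective ι := Set.range_eq_univ.1 hall
    have : IsClosedImmersion ι := IsClosedImmersion.of_isPreimmersion ι
      (by rw [hall]; exact isClosed_univ)
    have : IsAffine X := VarietyLib.isAffine_of_surjective_closedImmersion ι hsurj
    exact subsingleton_HH_of_isAffine F p hp
  | succ m ih =>
    intro X hX F hF p hp
    have := compactSpace_of_strat hX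
    have := quasiSeparatedSpace_of_strat hX
    obtain ⟨s, hs, hstr⟩ := hX
    let T : Set X := {x | s x ≤ (⟨m, by omega⟩ : Fin (m + 2))}
    let U : X.Opens := ⟨Tᶜ, (hs _).isOpen_compl⟩
    obtain ⟨W, ι, hι, hW, hιa, hr⟩ := hstr (Fin.last (m + 1))
    have hrU : Set.range ι = (U : Set X) := by
      rw [hr]; ext x
      show s x = Fin.last (m + 1) ↔ ¬ (s x).val ≤ m
      rw [Fin.ext_iff, Fin.val_last]
      omega
    obtain ⟨hU, hUa⟩ := isAffine_top_stratum U ι hrU
    have hvan : ∀ (G : X.Modules), Coh.IsQCoh G → CohB1.support G ⊆ T →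
        ∀ q : ℕ, m < q → Subsingleton (Coh.HH X G q) := by
      intro G hG hGT q hq
      refine subsingleton_HH_of_closedSubschemes G T q hGT fun Z i hi hZT H hH => ?_
      exact ih Z (strat_of_closedImmersion s hs hstr (m := m) (by omega) i
        (fun z => Nat.lt_succ_of_le (hZT ⟨z, rfl⟩))) H hH q hq
    haveI : IsAffine U.toScheme := hU
    let u : F ⟶ (Coh.push U.ι).obj (F.restrict U.ι) :=
      (Scheme.Modules.restrictAdjunction U.ι).unit.app F
    haveI : Coh.IsQCoh ((Coh.push U.ι).obj (F.restrict U.ι)) := isQCoh_push U.ι _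
    obtain ⟨q, rfl⟩ := Nat.exists_eq_succ_of_ne_zero (show p ≠ 0 by omega)
    have hJ0 : Subsingleton (Coh.HH X ((Coh.push U.ι).obj (F.restrict U.ι)) (q + 1)) :=
      haveI := subsingleton_HH_of_isAffine (F.restrict U.ι) (q + 1) q.succ_pos
      (HHAffinePushEquiv U.ι (F.restrict U.ι) (q + 1)).toEquiv.symm.subsingleton
    have hT : (U : Set X)ᶜ = T := compl_compl T
    obtain ⟨hK, hC⟩ := kernel_cokernel_restrictUnit F U
    rw [hT] at hK hC
    have hK' : Subsingleton (Coh.HH X (kernel u) (q + 1)) :=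
      hvan _ (isQCoh_kernel u) hK _ (by omega)
    have hC' : Subsingleton (Coh.HH X (cokernel u) q) :=
      hvan _ (isQCoh_cokernel u) hC _ (by omega)
    let j := Abelian.image.ι u
    let S₁ : ShortComplex X.Modules := ShortComplex.mk (kernel.ι u) (Abelian.factorThruImage u) (by
      rw [← cancel_mono j, Category.assoc, Abelian.image.fac, kernel.condition, zero_comp])
    have hS₁ : S₁.ShortExact :=
      { mono_f := inferInstanceAs (Mono (kernel.ι u))
        epi_g := inferInstanceAs (Epi (Abelian.factorThruImage u))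
        exact := ShortComplex.exact_of_f_is_kernel _
          (isKernelOfComp (f := Abelian.factorThruImage u) j u (kernelIsKernel u) S₁.zero (Abelian.image.fac u)) }
    let S₂ : ShortComplex X.Modules :=
      ShortComplex.mk j (cokernel.π u) (kernel.condition (cokernel.π u))
    have hS₂ : S₂.ShortExact :=
      { exact := ShortComplex.exact_of_f_is_kernel _ (kernelIsKernel (cokernel.π u))
        mono_f := inferInstanceAs (Mono (kernel.ι (cokernel.π u)))
        epi_g := inferInstanceAs (Epi (cokernel.π u)) }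
    exact subsingleton_HH_X₂ hS₁ (q + 1) hK' (subsingleton_HH_X₁ hS₂ q hC' hJ0)

end Groth.Agent.FlatMorStrat
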